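import Cfsg.Agent.H366.CV.OddX
import Cfsg.Agent.H548.CV.OrTen
import Cfsg.Agent.S0295

/-!
# S3442, row X11: `Ω_{2m+1}(q)`, `m ≥ 3` odd, `q` odd (helper366)
-/

set_option autoImplicit false

namespace Cfsg.Agent.H366.CV

open Cfsg Cfsg.Agent.H373.CV

universe u

/-- **Row X11**, from the case `r = 2`, `q = 1 (4)`. -/
theorem x11_of (hB : ∀ (F : Type) [Field F] [Fintype F] (m : ℕ), Fintype.card F % 4 = 1 → 3 ≤ m →
      Hit.{u, 0} 2 (POmega F (quadFormOdd m F)))
    (F : Type) [Field F] [Fintype F] (m : ℕ) (ho : Odd (Fintype.card F)) (hm : 3 ≤ m) (hmo : Odd m)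
    (r : ℕ) (hr : r.Prime) (hrF : ¬ r ∣ Fintype.card F) : Hit.{u, 0} r (POmega F (quadFormOdd m F)) := by
  have hs : IsSimpleGroup (POmega F (quadFormOdd m F)) := S0295.result ho m hm
  have hfin : Finite (POmega F (quadFormOdd m F)) := by
    have : Finite (Omega F (quadFormOdd m F)) := inferInstance
    exact inferInstanceAs (Finite (Omega F (quadFormOdd m F) ⧸ Subgroup.center (Omega F (quadFormOdd m F))))
  by_cases hd : r ∣ Nat.card (POmega F (quadFormOdd m F))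
  · by_cases hA : r ≠ 2 ∨ Fintype.card F % 4 = 3
    · exact OddX.hit_A F m ho hm hmo r hr hrF hA (Cfsg.Agent.H548.CV.hT_of_lf (H977.CycSp.lf_oodd hm ho) hr hd)
    · push Not at hA
      obtain ⟨rfl, h3⟩ := hA
      refine hB F m ?_ hm
      obtain ⟨k, hk⟩ := ho
      omega
  · exact Hit.of_not_dvd hd

/-- **Row X11.** -/
theorem x11 (F : Type) [Field F] [Fintype F] (m : ℕ) (ho : Odd (Fintype.card F)) (hm : 3 ≤ m) (hmo : Odd m)
    (r : ℕ) (hr : r.Prime) (hrF : ¬ r ∣ Fintype.card F) : Hit.{u, 0} r (POmega F (quadFormOdd m F)) :=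
  x11_of (fun F _ _ m h4 hm => Cfsg.Agent.H548.CV.x11_two F m hm h4) F m ho hm hmo r hr hrF

end Cfsg.Agent.H366.CV
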