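import Mathlib
import Cfsg.Agent.H229.T.CentGen

/-!
# Elements of `Ω_{2m+1}(q)` of order divisible by a primitive prime of `q^m ± 1` (helper366, S3442 row X11)
-/

set_option autoImplicit false
set_option linter.unusedSectionVars false

namespace Cfsg.Agent.H366.CV.OddU

open QuadraticMap Module
open Cfsg.Agent.LieClassical.OrthCore Cfsg.Agent.LieClassical.OrthForms Cfsg.Agent.LieClassical.OrthFinite
open Cfsg.Agent.H160 Cfsg.Agent.H160.QSpin Cfsg.Agent.H160.QDisc Cfsg.Agent.H160.QFinal Cfsg.Agent.H160.QModel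
open Cfsg.Agent.H160.QReal Cfsg.Agent.H160.QSplit Cfsg.Agent.H160.QChar Cfsg.Agent.H160.QRoots Cfsg.Agent.H229.T

variable {F : Type*} [Field F] [Fintype F] {V : Type*} [AddCommGroup V] [Module F V] [FiniteDimensional F V] [Finite V]

omit [Fintype F] in
/-- dimension one -/
theorem eq_one_of_det {g : (Fin 1 → F) ≃ₗ[F] (Fin 1 → F)} (h : LinearEquiv.det g = 1) : g = 1 := by
  have h1 : LinearMap.det (g : (Fin 1 → F) →ₗ[F] (Fin 1 → F)) = 1 := by
    rw [← LinearEquiv.coe_det, h, Units.val_one]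
  rw [← LinearMap.det_toMatrix', Matrix.det_fin_one, LinearMap.toMatrix'_apply] at h1
  apply LinearEquiv.ext
  intro v
  have h2 : v = v 0 • (Pi.single (0 : Fin 1) (1 : F) : Fin 1 → F) := by
    ext i
    have : i = 0 := Subsingleton.elim _ _
    rw [this, Pi.smul_apply, Pi.single_eq_same, smul_eq_mul, mul_one]
  funext i
  have hi : i = 0 := Subsingleton.elim _ _
  subst hi
  show g v 0 = v 0
  conv_lhs => rw [h2, map_smul]
  have h3 : g (Pi.single (0 : Fin 1) (1 : F)) 0 = 1 := h1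
  rw [Pi.smul_apply, h3, smul_eq_mul, mul_one]

/-- **The upper bound, dimension `2 m + 1`.** -/
theorem upper (h2 : (2 : F) ≠ 0) {Q : QuadraticForm F V}
    (hQ : Nondeg Q) {m r : ℕ} (hm : 1 ≤ m) (hV : finrank F V = 2 * m + 1)
    (hr : r.Prime) (hr2 : r ≠ 2) (hrq : r ∣ Fintype.card F ^ m - 1 ∨ r ∣ Fintype.card F ^ m + 1)
    (hprim : ∀ d, 0 < d → (r ∣ Fintype.card F ^ d - 1 ∨ r ∣ Fintype.card F ^ d + 1) → m ∣ d)
    {g : V ≃ₗ[F] V} (hg : El Q 1 g) (ho : r ∣ orderOf g) :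
    orderOf g ∣ (Fintype.card F ^ m - 1) / 2 ∨ orderOf g ∣ (Fintype.card F ^ m + 1) / 2 := by
  classical
  obtain ⟨p, hpF⟩ := CharP.exists F
  have hp : Fact p.Prime := ⟨CharP.char_is_prime F p⟩
  have hq0 : 0 < Fintype.card F := Fintype.card_pos
  have hfin : Finite (V ≃ₗ[F] V) := Finite.of_injective (fun g : V ≃ₗ[F] V => (g : V → V)) DFunLike.coe_injective
  have hpos : orderOf g ≠ 0 := (orderOf_pos g).ne'
  have hrF : ¬ r ∣ Fintype.card F := not_dvd_two_mul hr hq0 hm hrq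
  have hrp : r ≠ p := by
    rintro rfl
    exact hrF (QMain.p_dvd_card (F := F) (p := r))
  have hgO : g ∈ O Q := hg.1
  have ha : orderOf (g ^ (orderOf g / r)) = r := orderOf_pow_orderOf_div hpos ho
  obtain ⟨Q₁, Q₂, a₁, e, hQ₁, hQ₂, he, hae, ha₁, ha₁r, hno⟩ :=
    split_a (p := p) hQ hm (by omega) hV hr hr2 hrp hprim ((O Q).pow_mem hgO (orderOf g / r)) ha
  obtain ⟨g₁, g₂, hgeq', -⟩ := exists_pr (a := a₁) (g := cj e.symm g) hno (by
    have h3 : pr a₁ (1 : (Fin 1 → F) ≃ₗ[F] (Fin 1 → F)) = cj e.symm (g ^ (orderOf g / r)) := by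
      rw [hae, QUpper.cj_symm_cj]
    rw [h3, ← cj_mul, ← cj_mul, ← pow_succ', ← pow_succ])
  have hgeq : g = cj e (pr g₁ g₂) := by
    rw [← hgeq']
    have := QUpper.cj_symm_cj e.symm g
    rw [LinearEquiv.symm_symm] at this
    exact this.symm
  have hprO : pr g₁ g₂ ∈ O (Q₁.prod Q₂) := by
    rw [← hgeq']
    exact cj_mem_O he.symm hgO
  obtain ⟨hg₁, hg₂⟩ := pr_mem_O_iff.1 hprO
  have hpowg : ∀ i, g ^ i = cj e (pr (g₁ ^ i) (g₂ ^ i)) := by
    intro i
    conv_lhs => rw [hgeq, ← cj_pow, pr_pow]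
  have hinj : ∀ {x x' : (Fin (2 * m) → F) ≃ₗ[F] (Fin (2 * m) → F)} {y y' : (Fin 1 → F) ≃ₗ[F] (Fin 1 → F)},
      cj e (pr x y) = cj e (pr x' y') → x = x' ∧ y = y' := by
    intro x x' y y' h
    have h3 : pr x y = pr x' y' := (cjEquiv e).injective h
    have h4 : ((x, y) : _ × _) = (x', y') := prHom_injective h3
    exact Prod.mk.inj h4
  have hga : g₁ ^ (orderOf g / r) = a₁ ∧ g₂ ^ (orderOf g / r) = 1 := by
    apply hinj
    rw [← hpowg, hae]
  have hfin₁ : Finite ((Fin (2 * m) → F) ≃ₗ[F] (Fin (2 * m) → F)) :=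
    Finite.of_injective (fun g : (Fin (2 * m) → F) ≃ₗ[F] (Fin (2 * m) → F) => (g : (Fin (2 * m) → F) → (Fin (2 * m) → F)))
      DFunLike.coe_injective
  have hdim₁ : finrank F (Fin (2 * m) → F) = 2 * m := by simp
  -- determinants
  have hno₁ : ∀ v, g₁ v = v → v = 0 := by
    intro v hv
    apply hno
    rw [← hga.1]
    have : ∀ k, (g₁ ^ k) v = v := by
      intro k
      induction k with
      | zero => rfl
      | succ k ih =>
        rw [pow_succ]
        show (g₁ ^ k) (g₁ v) = v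
        rw [hv, ih]
    exact this _
  have hd₁ : LinearEquiv.det g₁ = 1 := by
    apply Units.ext
    rw [LinearEquiv.coe_det]
    have h3 := det_of_no_one hQ₁ hg₁ hno₁
    rw [hdim₁, pow_mul, neg_one_sq, one_pow] at h3
    exact h3
  have hd₂ : LinearEquiv.det g₂ = 1 := by
    have h3 := hg.2.1
    rw [hgeq, det_cj, det_pr, hd₁, one_mul] at h3
    exact h3
  have hg₂1 : g₂ = 1 := eq_one_of_det hd₂
  subst hg₂1
  have ho₁ : orderOf g = orderOf g₁ := by
    conv_lhs => rw [hgeq, orderOf_cj, orderOf_pr, orderOf_one, Nat.lcm_one_right]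
  -- `g₁` is an element of `Ω`
  have hEl₁ : El Q₁ 1 g₁ := by
    refine ⟨hg₁, hd₁, ?_⟩
    have hEl := El.cj he.symm hg
    rw [hgeq, QUpper.cj_symm_cj] at hEl
    obtain ⟨q1, q2, q3⟩ := hEl
    have h3 := spin_pr h2 hQ₁ hQ₂ hg₁ (O Q₂).one_mem
    have h4 : (⟨1, (O Q₂).one_mem⟩ : O Q₂) = 1 := rfl
    rw [h4, map_one, mul_one] at h3
    rw [← h3]
    exact q3
  obtain ⟨ν, hνmin, hνR⟩ := exists_orb hQ₁ hm hdim₁ hr hr2 hprim hg₁ (N := orderOf g / r)
    (by rw [hga.1]; exact ha₁r) (by rw [hga.1]; exact hno)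
  have hfinal := Cfsg.Agent.H104.QSemiB.semi h2 hQ₁ hm hdim₁ hEl₁ hνmin hνR
  rwa [ho₁]

/-- the primitive prime divides `q ^ m - 1` -/
theorem upper_odd (h2 : (2 : F) ≠ 0) {Q : QuadraticForm F V}
    (hQ : Nondeg Q) {m r : ℕ} (hm : 1 ≤ m) (hmo : Odd m) (hV : finrank F V = 2 * m + 1)
    (hr : r.Prime) (hr2 : r ≠ 2) (hor : orderOf ((Fintype.card F : ℕ) : ZMod r) = m)
    {g : V ≃ₗ[F] V} (hg : El Q 1 g) (ho : r ∣ orderOf g) :
    orderOf g ∣ (Fintype.card F ^ m - 1) / 2 := by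
  have hq0 : 0 < Fintype.card F := Fintype.card_pos
  have h1 : r ∣ Fintype.card F ^ m - 1 := by
    rw [← ZMod.natCast_eq_zero_iff, Nat.cast_sub (Nat.one_le_pow _ _ hq0)]
    push_cast
    rw [sub_eq_zero, ← hor]
    exact pow_orderOf_eq_one _
  rcases upper h2 hQ hm hV hr hr2 (Or.inl h1) (prim_dvd hq0 (Or.inr ⟨hor, hmo⟩)) hg ho with h | h
  · exact h
  · exfalso
    have hqodd : Odd (Fintype.card F ^ m) := by
      obtain ⟨e', he'⟩ := QUpper.card_odd_eq (F := F) h2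
      exact Odd.pow ⟨e', he'⟩
    obtain ⟨k, hk⟩ := hqodd
    have h3 : r ∣ Fintype.card F ^ m + 1 := by
      refine (ho.trans h).trans ⟨2, ?_⟩
      omega
    have h4 := Nat.dvd_sub h3 h1
    have h5 : Fintype.card F ^ m + 1 - (Fintype.card F ^ m - 1) = 2 := by omega
    rw [h5] at h4
    exact hr2 ((Nat.prime_dvd_prime_iff_eq hr Nat.prime_two).1 h4)

end Cfsg.Agent.H366.CV.OddU
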