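import Mathlib
import Cfsg.Agent.H366.CV.OddA
import Cfsg.Agent.H366.CV.OddU
import Cfsg.Agent.H357.CV.Tool
import Cfsg.Agent.Lib.Zsigmondy

/-!
# S3442, row X11 (A): `Ω_{2m+1}(q)`, `m ≥ 3` odd, `q` odd, `r` odd or `q = 3 (4)` (helper366)
-/

set_option autoImplicit false
set_option linter.unusedSectionVars false

namespace Cfsg.Agent.H366.CV.OddX

open QuadraticMap Module Cfsg
open Cfsg.Agent.LieClassical.OrthCore Cfsg.Agent.LieClassical.OrthForms Cfsg.Agent.LieClassical.OrthFinite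
open Cfsg.Agent.H160 Cfsg.Agent.H160.QSpin Cfsg.Agent.H160.QDisc Cfsg.Agent.H160.QFinal Cfsg.Agent.H229.T
open Cfsg.Agent.H373.CV Cfsg.Agent.H357.CV

universe u

theorem odd_pow_half {q m : ℕ} (hq : q % 4 = 3) (hm : Odd m) : Odd ((q ^ m - 1) / 2) := by
  obtain ⟨k, rfl⟩ := hm
  have h1 : q ^ (2 * k + 1) % 4 = 3 := by
    induction k with
    | zero => simpa using hq
    | succ k ih =>
      have e : q ^ (2 * (k + 1) + 1) = q ^ (2 * k + 1) * (q * q) := by ring
      rw [e, Nat.mul_mod, ih, Nat.mul_mod q q, hq]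
  rw [Nat.odd_iff]
  omega

/-- **Row X11 (A).** -/
theorem hit_A (F : Type) [Field F] [Fintype F] (m : ℕ) (ho : Odd (Fintype.card F)) (hm : 3 ≤ m) (hmo : Odd m)
    (r : ℕ) (hr : r.Prime) (hrF : ¬ r ∣ Fintype.card F) (hA : r ≠ 2 ∨ Fintype.card F % 4 = 3)
    [IsSimpleGroup (POmega F (quadFormOdd m F))]
    (hT : ∃ x : POmega F (quadFormOdd m F), ¬ r ∣ orderOf x ∧ ∀ y : POmega F (quadFormOdd m F), orderOf y ≠ r * orderOf x) :
    Hit.{u, 0} r (POmega F (quadFormOdd m F)) := by
  classical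
  have h2 : (2 : F) ≠ 0 := two_ne_zero_of_odd ho
  obtain ⟨p, hpF⟩ := CharP.exists F
  have hp : Fact p.Prime := ⟨CharP.char_is_prime F p⟩
  have hq1 : 1 < Fintype.card F := Fintype.one_lt_card
  -- the primitive prime
  obtain ⟨R, hR, hRo⟩ := Cfsg.Agent.Lib.Zsigmondy.exists_prime_orderOf (a := Fintype.card F) (n := m) (by omega) (by omega)
    (by omega) (by rintro ⟨h, -⟩; rw [h] at ho; revert ho; decide)
  have hq0 : 0 < Fintype.card F := by omega
  have hqm : 1 ≤ Fintype.card F ^ m := Nat.one_le_pow _ _ hq0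
  have hRd : R ∣ Fintype.card F ^ m - 1 := by
    rw [← ZMod.natCast_eq_zero_iff, Nat.cast_sub hqm]
    push_cast
    rw [sub_eq_zero, ← hRo]
    exact pow_orderOf_eq_one _
  have hR2 : R ≠ 2 := by
    rintro rfl
    have h3 : ((Fintype.card F : ℕ) : ZMod 2) = 1 := by
      obtain ⟨k, hk⟩ := ho
      rw [hk]
      push_cast
      have : (2 : ZMod 2) = 0 := rfl
      rw [this, zero_mul, zero_add]
    rw [h3, orderOf_one] at hRo
    omega
  -- the odd part
  have hN0 : Fintype.card F ^ m - 1 ≠ 0 := by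
    have : Fintype.card F ^ 1 ≤ Fintype.card F ^ m := Nat.pow_le_pow_right (by omega) (by omega)
    rw [pow_one] at this
    omega
  obtain ⟨k, N, hNo, hN⟩ := Nat.exists_eq_two_pow_mul_odd hN0
  have hRN : R ∣ N := by
    rw [hN] at hRd
    exact (((Nat.coprime_primes hR Nat.prime_two).2 hR2).pow_right k).dvd_of_dvd_mul_left hRd
  have hN1 : 1 < N := lt_of_lt_of_le hR.one_lt (Nat.le_of_dvd hNo.pos hRN)
  -- the group `Om Q`
  obtain ⟨f⟩ := exists_pomega h2 (nondeg_oddForm m F h2) (by simp; omega) (by simp)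
  have hfinP : Finite (POmega F ⇑(oddForm m F)) := by
    have : Finite (Omega F ⇑(oddForm m F)) := inferInstance
    exact inferInstanceAs (Finite (Omega F ⇑(oddForm m F) ⧸ Subgroup.center (Omega F ⇑(oddForm m F))))
  have hfin : Finite (Om (oddForm m F)) := Finite.of_equiv _ f.toEquiv
  rw [coe_oddForm] at f
  have hsim : IsSimpleGroup (Om (oddForm m F)) := f.symm.isSimpleGroup
  apply Hit.congr f
  have hT' : ∃ x : Om (oddForm m F), ¬ r ∣ orderOf x ∧ ∀ y : Om (oddForm m F), orderOf y ≠ r * orderOf x := by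
    obtain ⟨x, hx, hx'⟩ := hT
    refine ⟨f x, by rwa [MulEquiv.orderOf_eq], fun y hy => hx' (f.symm y) ?_⟩
    rw [MulEquiv.orderOf_eq, hy, MulEquiv.orderOf_eq]
  obtain ⟨L, _, _, ζ, u, c, hcard, hu, hζ, hco, hc⟩ :=
    OddA.exists_frob h2 (nondeg_oddForm m F h2) hm hmo (by simp; ring) ⟨2 ^ k, by rw [hN]; ring⟩ hNo hN1
  -- the characteristic of `L`
  have hchar : CharP L p := by
    obtain ⟨s, hs⟩ := CharP.exists L
    have hsp : s.Prime := CharP.char_is_prime L s
    have hsf := Fact.mk hsp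
    have := Fintype.ofFinite L
    obtain ⟨i, -, hi⟩ := FiniteField.card L s
    obtain ⟨i', -, hi'⟩ := FiniteField.card F p
    rw [Nat.card_eq_fintype_card, hi, hi', ← pow_mul] at hcard
    have h3 : s ∣ p ^ ((i' : ℕ) * m) := by
      rw [← hcard]
      exact dvd_pow_self s i.ne_zero
    have h4 : s = p := (Nat.prime_dvd_prime_iff_eq hsp hp.out).1 (hsp.dvd_of_dvd_pow h3)
    rwa [h4] at hs
  obtain ⟨q1, q2, q3, q4⟩ := frob_sub (p := p) hu (c := c) (ζ := ζ) (by rw [hζ, hco]) hc
  refine hit_of_frob hr hT' u.range q4 ?_ c q1 ?_ ?_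
  · intro hd
    obtain ⟨n, hn⟩ := (IsPGroup.iff_card).1 q3
    rw [hn] at hd
    have h3 : r = p := (Nat.prime_dvd_prime_iff_eq hr hp.out).1 (hr.dvd_of_dvd_pow hd)
    apply hrF
    rw [h3]
    exact QMain.p_dvd_card (F := F)
  · intro i hi a ha hia
    have h3 : c ^ (i % orderOf c) = c ^ i := pow_mod_orderOf c i
    have hi0 : 0 < i % orderOf c := by
      rcases Nat.eq_zero_or_pos (i % orderOf c) with h | h
      · rw [h, pow_zero] at h3
        exact absurd h3.symm hi
      · exact h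
    exact q2 (i % orderOf c) hi0 (Nat.mod_lt _ (orderOf_pos c)) a ha (by rw [h3]; exact hia)
  · intro y hy
    rw [hco] at hy
    have h3 : orderOf y ∣ (Fintype.card F ^ m - 1) / 2 := by
      rw [← Subgroup.orderOf_coe]
      refine OddU.upper_odd h2 (nondeg_oddForm m F h2) (by omega) hmo (by simp; ring) hR hR2 hRo y.2 ?_
      rw [Subgroup.orderOf_coe, hy]
      exact hRN.mul_left r
    rw [hy] at h3
    rcases hA with h | h
    · -- `r * N` divides the odd part
      have hro : Odd (r * N) := (hr.odd_of_ne_two h).mul hNo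
      have h4 : r * N ∣ 2 ^ k * N := by
        rw [← hN]
        exact h3.trans (Nat.div_dvd_of_dvd (by
          obtain ⟨e, he⟩ := (ho.pow : Odd (Fintype.card F ^ m))
          exact ⟨e, by omega⟩))
      have h5 : r * N ∣ N := (Nat.Coprime.pow_right k (Nat.coprime_two_right.2 hro)).dvd_of_dvd_mul_left h4
      have h6 := Nat.le_of_dvd hNo.pos h5
      have h7 : 2 * N ≤ r * N := Nat.mul_le_mul_right _ hr.two_le
      omega
    · by_cases h2' : r = 2
      · rw [h2'] at h3
        have h4 := odd_pow_half h hmo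
        exact absurd h4 (Nat.not_odd_iff_even.2 (even_iff_two_dvd.2 ((Nat.dvd_mul_right 2 N).trans h3)))
      · have hro : Odd (r * N) := (hr.odd_of_ne_two h2').mul hNo
        have h4 : r * N ∣ 2 ^ k * N := by
          rw [← hN]
          exact h3.trans (Nat.div_dvd_of_dvd (by
            obtain ⟨e, he⟩ := (ho.pow : Odd (Fintype.card F ^ m))
            exact ⟨e, by omega⟩))
        have h5 : r * N ∣ N := (Nat.Coprime.pow_right k (Nat.coprime_two_right.2 hro)).dvd_of_dvd_mul_left h4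
        have h6 := Nat.le_of_dvd hNo.pos h5
        have h7 : 2 * N ≤ r * N := Nat.mul_le_mul_right _ hr.two_le
        omega

end Cfsg.Agent.H366.CV.OddX
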